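import Cfsg.Agent.Lib.LinFix.SympIndex

/-!
The parity condition on the block multiplicities of a unipotent isometry of a non-degenerate form.
-/

set_option autoImplicit false
set_option maxHeartbeats 200000

namespace CfsgLib.UnipotentClassical

open Module

variable {F V : Type*} [Field F] [AddCommGroup V] [Module F V] [FiniteDimensional F V]

/-- An alternating form has even rank. -/
theorem even_finrank_sub_ker (b : V →ₗ[F] V →ₗ[F] F) (hb : ∀ v, b v v = 0) :
    Even (finrank F V - finrank F (LinearMap.ker b)) := by
  obtain ⟨C, hC⟩ := Submodule.exists_isCompl (LinearMap.ker b)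
  have hskew : ∀ x y, b x y = - b y x := fun x y => by
    have h := hb (x + y)
    simp only [map_add, LinearMap.add_apply, hb, zero_add, add_zero] at h
    exact eq_neg_of_add_eq_zero_right h
  obtain ⟨d, e, -⟩ := CfsgLib.LinFix.exists_sympEquiv (b.compl₁₂ C.subtype C.subtype)
    (fun v => hb v.1) (fun v hv => by
      have hker : (v : V) ∈ LinearMap.ker b := by
        rw [LinearMap.mem_ker]
        ext x
        obtain ⟨r, hr, c, hc, rfl⟩ := Submodule.mem_sup.mp
          (hC.sup_eq_top ▸ Submodule.mem_top : x ∈ LinearMap.ker b ⊔ C)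
        have h1 : b (v : V) r = 0 := by
          rw [hskew, LinearMap.mem_ker.mp hr]
          simp
        have h2 : b (v : V) c = 0 := hv ⟨c, hc⟩
        simp [h1, h2]
      exact Subtype.ext (Submodule.disjoint_def.mp hC.disjoint _ hker v.2))
  have h1 := Submodule.finrank_add_eq_of_isCompl hC
  have h2 : finrank F C = d + d := by
    rw [e.finrank_eq, Module.finrank_pi, Fintype.card_sum, Fintype.card_fin]
  exact ⟨d, by omega⟩

theorem ker_inf_range_finrank (N : Module.End F V) (s : ℕ) :
    finrank F ↥(LinearMap.ker N ⊓ LinearMap.range (N ^ s)) + finrank F (LinearMap.range (N ^ (s + 1))) =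
      finrank F (LinearMap.range (N ^ s)) := by
  have h := LinearMap.finrank_range_add_finrank_ker (N.comp (LinearMap.range (N ^ s)).subtype)
  have h1 : LinearMap.range (N.comp (LinearMap.range (N ^ s)).subtype) =
      LinearMap.range (N ^ (s + 1)) := by
    rw [LinearMap.range_comp, Submodule.range_subtype, pow_succ', Module.End.mul_eq_comp,
      LinearMap.range_comp]
  have h2 : finrank F (LinearMap.ker (N.comp (LinearMap.range (N ^ s)).subtype)) =
      finrank F ↥(LinearMap.ker N ⊓ LinearMap.range (N ^ s)) := by
    rw [LinearMap.ker_comp, ← Submodule.finrank_map_subtype_eq, Submodule.map_comap_subtype, inf_comm]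
  rw [h1, h2] at h
  omega

theorem map_ker_pow (N : Module.End F V) (s : ℕ) :
    (LinearMap.ker (N ^ (s + 1))).map (N ^ s) = LinearMap.ker N ⊓ LinearMap.range (N ^ s) := by
  ext x
  simp only [Submodule.mem_map, LinearMap.mem_ker, Submodule.mem_inf, LinearMap.mem_range]
  constructor
  · rintro ⟨y, hy, rfl⟩
    exact ⟨by rw [← Module.End.mul_apply, ← pow_succ']; exact hy, y, rfl⟩
  · rintro ⟨hx, y, rfl⟩
    exact ⟨y, by rw [pow_succ', Module.End.mul_apply]; exact hx, rfl⟩

theorem finrank_comap_eq {W : Type*} [AddCommGroup W] [Module F W] [FiniteDimensional F W]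
    (φ : W →ₗ[F] V) (S : Submodule F V) :
    finrank F ↥(Submodule.comap φ S) =
      finrank F (LinearMap.ker φ) + finrank F ↥(LinearMap.range φ ⊓ S) := by
  have h := LinearMap.finrank_range_add_finrank_ker (φ.comp (Submodule.comap φ S).subtype)
  have h1 : LinearMap.range (φ.comp (Submodule.comap φ S).subtype) = LinearMap.range φ ⊓ S := by
    rw [LinearMap.range_comp, Submodule.range_subtype, Submodule.map_comap_eq]
  have h2 : finrank F (LinearMap.ker (φ.comp (Submodule.comap φ S).subtype)) =
      finrank F (LinearMap.ker φ) := by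
    rw [LinearMap.ker_comp, ← Submodule.finrank_map_subtype_eq, Submodule.map_comap_subtype,
      inf_eq_right.mpr]
    intro x hx
    simp only [Submodule.mem_comap, LinearMap.mem_ker.mp hx]
    exact S.zero_mem
  rw [h1, h2] at h
  omega

/-- If `u` is an isometry of a non-degenerate reflexive form `B` and, for some splitting `s = p + q`,
the form `(x, y) ↦ B (N^p x) (N^q y)` is alternating on `ker N^(s+1)` (where `N = u - 1`), then the
multiplicity of the block size `s + 1` is even. -/
theorem even_multiplicity (B : LinearMap.BilinForm F V) (hnd : B.Nondegenerate) (hr : B.IsRefl)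
    (u : V ≃ₗ[F] V) (hu : ∀ x y, B (u x) (u y) = B x y) (N : Module.End F V)
    (hN : ∀ x, N x = u x - x) (s p q : ℕ) (hpq : p + q = s)
    (halt : ∀ x, (N ^ (s + 1)) x = 0 → B ((N ^ p) x) ((N ^ q) x) = 0) (a : ℕ)
    (ha : a + 2 * finrank F (LinearMap.range (N ^ (s + 1))) =
      finrank F (LinearMap.range (N ^ s)) + finrank F (LinearMap.range (N ^ (s + 2)))) :
    Even a := by
  let S : Module.End F V := u.symm.toLinearMap
  let M : Module.End F V := S - 1
  have hNM : ∀ x y, B (N x) y = B x (M y) := fun x y => by
    have h := hu x (u.symm y)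
    rw [u.apply_symm_apply] at h
    simp [M, S, hN, map_sub, LinearMap.sub_apply, h]
  have hNMr : ∀ x y, B x (N y) = B (M x) y := fun x y => by
    have h := hu (u.symm x) y
    rw [u.apply_symm_apply] at h
    simp [M, S, hN, map_sub, LinearMap.sub_apply, h]
  have hpow : ∀ (k : ℕ) x y, B ((N ^ k) x) y = B x ((M ^ k) y) := by
    intro k
    induction k with
    | zero => intro x y; simp
    | succ k ih => intro x y; rw [pow_succ, Module.End.mul_apply, ih, hNM, ← Module.End.mul_apply, ← pow_succ']
  have hpowr : ∀ (k : ℕ) x y, B x ((N ^ k) y) = B ((M ^ k) x) y := by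
    intro k
    induction k with
    | zero => intro x y; simp
    | succ k ih => intro x y; rw [pow_succ, Module.End.mul_apply, ih, hNMr, ← Module.End.mul_apply, ← pow_succ']
  have hSN : Commute S N := LinearMap.ext fun x => by
    simp [S, hN, map_sub]
  have hM : M = -(S * N) := LinearMap.ext fun x => by
    simp [M, S, hN, map_sub]
  have hMk : ∀ k, M ^ k = ((-1 : Module.End F V) ^ k) * (S ^ k * N ^ k) := fun k => by
    rw [hM, neg_pow, hSN.mul_pow]
  have hMker : ∀ k x, (N ^ k) x = 0 → (M ^ k) x = 0 := fun k x hx => by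
    rw [hMk, Module.End.mul_apply, Module.End.mul_apply, hx, map_zero, map_zero]
  have hSfix : ∀ k z, N z = 0 → (S ^ k) z = z := by
    intro k
    induction k with
    | zero => intro z _; simp
    | succ k ih =>
      intro z hz
      rw [hN, sub_eq_zero] at hz
      have : u.symm z = z := by
        conv_lhs => rw [← hz]
        exact u.symm_apply_apply z
      rw [pow_succ, Module.End.mul_apply, show S z = z from this]
      exact ih z (by rw [hN, hz, sub_self])
  have hmix : ∀ y, (N ^ (s + 1)) y = 0 → (M ^ p) ((N ^ q) y) = ((-1 : Module.End F V) ^ p) ((N ^ s) y) := by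
    intro y hy
    have h1 : N ((N ^ s) y) = 0 := by rw [← Module.End.mul_apply, ← pow_succ']; exact hy
    rw [hMk, Module.End.mul_apply, Module.End.mul_apply, ← Module.End.mul_apply (N ^ p), ← pow_add, hpq,
      hSfix p _ h1]
  have horth : B.orthogonal (LinearMap.ker (N ^ (s + 1))) = LinearMap.range (N ^ (s + 1)) := by
    symm
    refine Submodule.eq_of_le_of_finrank_eq ?_ ?_
    · rintro _ ⟨z, rfl⟩ x hx
      rw [hpowr, hMker _ _ (LinearMap.mem_ker.mp hx)]
      simp
    · rw [LinearMap.BilinForm.finrank_orthogonal hnd]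
      have := LinearMap.finrank_range_add_finrank_ker (N ^ (s + 1))
      omega
  set K := LinearMap.ker (N ^ (s + 1)) with hK
  let φ : K →ₗ[F] V := (N ^ s).comp K.subtype
  let b : K →ₗ[F] K →ₗ[F] F := B.compl₁₂ ((N ^ p).comp K.subtype) ((N ^ q).comp K.subtype)
  have hbalt : ∀ x, b x x = 0 := fun x => halt x.1 (LinearMap.mem_ker.mp x.2)
  have hskew : ∀ x y, b x y = - b y x := fun x y => by
    have h := hbalt (x + y)
    simp only [map_add, LinearMap.add_apply, hbalt, zero_add, add_zero] at h
    exact eq_neg_of_add_eq_zero_right h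
  have hker : LinearMap.ker b = Submodule.comap φ (LinearMap.range (N ^ (s + 1))) := by
    ext y
    rw [LinearMap.mem_ker, Submodule.mem_comap, ← horth, LinearMap.BilinForm.mem_orthogonal_iff]
    have hsign : ∀ x : K, b x y = (-1 : F) ^ p * B x.1 ((N ^ s) y.1) := fun x => by
      show B ((N ^ p) x.1) ((N ^ q) y.1) = _
      rw [hpow, hmix _ (LinearMap.mem_ker.mp y.2)]
      rcases Nat.even_or_odd p with hp | hp
      · simp [hp.neg_one_pow]
      · simp [hp.neg_one_pow]
    have hp0 : (-1 : F) ^ p ≠ 0 := pow_ne_zero _ (neg_ne_zero.mpr one_ne_zero)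
    constructor
    · intro h x hx
      have h1 := hsign ⟨x, hx⟩
      rw [hskew, h] at h1
      simp [φ] at h1 ⊢
      exact h1
    · intro h
      ext x
      rw [hskew, hsign]
      have := h x.1 x.2
      simp [φ] at this
      simp [this]
  have h1 := even_finrank_sub_ker b hbalt
  rw [hker, finrank_comap_eq] at h1
  have h2 : LinearMap.range φ = LinearMap.ker N ⊓ LinearMap.range (N ^ s) := by
    rw [LinearMap.range_comp, Submodule.range_subtype, map_ker_pow]
  have h3 := LinearMap.finrank_range_add_finrank_ker φ
  have h4 : LinearMap.range (N ^ (s + 1)) ≤ LinearMap.range (N ^ s) := by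
    rw [pow_succ, Module.End.mul_eq_comp]
    exact LinearMap.range_comp_le_range _ _
  rw [h2] at h1 h3
  rw [inf_assoc, inf_eq_right.mpr h4] at h1
  have h5 := ker_inf_range_finrank N s
  have h6 := ker_inf_range_finrank N (s + 1)
  rw [show s + 1 + 1 = s + 2 from rfl] at h6
  obtain ⟨r, hr'⟩ := h1
  exact ⟨r, by omega⟩

end CfsgLib.UnipotentClassical
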