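import Cfsg.Agent.Lib.UnipotentClassical.Exist
import Cfsg.Agent.Lib.UnipotentClassical.Parity

/-!
Jordan types of unipotent isometries: assembling the blocks, and the parity criterion.
-/

set_option autoImplicit false
set_option maxHeartbeats 200000

namespace CfsgLib.UnipotentClassical

open Module

variable {F : Type*} [Field F]

theorem HasAlt.pi {ι : Type*} [Fintype ι] [DecidableEq ι] {V : ι → Type*} [∀ i, AddCommGroup (V i)]
    [∀ i, Module F (V i)] {u : ∀ i, Module.End F (V i)} (h : ∀ i, HasAlt (u i))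
    (U : Module.End F (∀ i, V i)) (hU : ∀ v i, U v i = u i (v i)) : HasAlt U := by
  choose B h1 h2 h3 using h
  refine ⟨∑ i, (B i).compl₁₂ (LinearMap.proj i) (LinearMap.proj i), fun v => ?_, fun v hv => ?_,
    fun v w => ?_⟩
  · simp [h1]
  · funext i
    refine h2 i _ fun w => ?_
    have := hv (Pi.single i w)
    simp only [LinearMap.coe_sum, Finset.sum_apply, LinearMap.compl₁₂_apply, LinearMap.coe_proj,
      Function.eval] at this
    rwa [Finset.sum_eq_single i (fun j _ hj => by simp [hj]) (by simp), Pi.single_eq_same] at this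
  · simp [hU, h3]

theorem HasQuad.pi {ι : Type*} [Fintype ι] [DecidableEq ι] {V : ι → Type*} [∀ i, AddCommGroup (V i)]
    [∀ i, Module F (V i)] {u : ∀ i, Module.End F (V i)} (h : ∀ i, HasQuad (u i))
    (U : Module.End F (∀ i, V i)) (hU : ∀ v i, U v i = u i (v i)) : HasQuad U := by
  choose Q h2 h3 using h
  refine ⟨QuadraticMap.pi Q, fun v hv => ?_, fun v => ?_⟩
  · funext i
    refine h2 i _ fun w => ?_
    have := hv (Pi.single i w)
    simp only [QuadraticMap.polar, QuadraticMap.pi_apply, ← Finset.sum_sub_distrib] at this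
    rw [Finset.sum_eq_single i (fun j _ hj => by simp [hj]) (by simp)] at this
    simpa [QuadraticMap.polar] using this
  · simp [QuadraticMap.pi_apply, hU, h3]

theorem hasAlt_pair (n : ℕ) : HasAlt ((jb F n).prodMap (jb F n)) := by
  obtain ⟨P, h1, h2, h3⟩ := exists_pairing (F := F) n
  let l : ((Fin n → F) × (Fin n → F)) →ₗ[F] (Fin n → F) := LinearMap.fst F _ _
  let r : ((Fin n → F) × (Fin n → F)) →ₗ[F] (Fin n → F) := LinearMap.snd F _ _
  refine ⟨P.compl₁₂ l r - (P.compl₁₂ l r).flip, fun v => by simp, fun v hv => ?_, fun v w => ?_⟩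
  · have e1 : v.1 = 0 := h2 _ fun w => by simpa [l, r] using hv (0, w)
    have e2 : v.2 = 0 := h3 _ fun w => by simpa [l, r] using hv (w, 0)
    exact Prod.ext e1 e2
  · simp [l, r, h1]

theorem hasQuad_pair (n : ℕ) : HasQuad ((jb F n).prodMap (jb F n)) := by
  obtain ⟨P, h1, h2, h3⟩ := exists_pairing (F := F) n
  let l : ((Fin n → F) × (Fin n → F)) →ₗ[F] (Fin n → F) := LinearMap.fst F _ _
  let r : ((Fin n → F) × (Fin n → F)) →ₗ[F] (Fin n → F) := LinearMap.snd F _ _
  refine ⟨LinearMap.BilinMap.toQuadraticMap (P.compl₁₂ l r), fun v hv => ?_, fun v => ?_⟩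
  · have e1 : v.1 = 0 := h2 _ fun w => by
      simpa [l, r, LinearMap.BilinMap.polar_toQuadraticMap] using hv (0, w)
    have e2 : v.2 = 0 := h3 _ fun w => by
      simpa [l, r, LinearMap.BilinMap.polar_toQuadraticMap] using hv (w, 0)
    exact Prod.ext e1 e2
  · simp [l, r, h1]

variable {t : ℕ}

/-- The action of a unipotent matrix of given type. -/
noncomputable def jt (F : Type*) [Field F] (d : Fin t → ℕ) : Module.End F (((k : Fin t) × Fin (d k)) → F) :=
  (Cfsg.jordanTypeMatrix d F).mulVecLin

theorem jt_apply (d : Fin t → ℕ) (v : ((k : Fin t) × Fin (d k)) → F) (k : Fin t) (a : Fin (d k)) :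
    jt F d v ⟨k, a⟩ = jb F (d k) (fun b => v ⟨k, b⟩) a := by
  simp only [jt, jb, Matrix.mulVecLin_apply, Matrix.mulVec, dotProduct, Cfsg.jordanTypeMatrix]
  rw [Fintype.sum_sigma, Finset.sum_eq_single k]
  · exact Finset.sum_congr rfl fun b _ => by rw [Matrix.blockDiagonal'_apply_eq]
  · intro l _ hl
    exact Finset.sum_eq_zero fun b _ => by rw [Matrix.blockDiagonal'_apply_ne _ _ _ (Ne.symm hl), zero_mul]
  · simp

/-- Grouping the blocks by their size. -/
noncomputable def groupEquiv (F : Type*) [Field F] (d : Fin t → ℕ) : (((k : Fin t) × Fin (d k)) → F) ≃ₗ[F]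
    ((j : Fin (Finset.univ.sup d + 1)) → {k // d k = j.1} → Fin j.1 → F) where
  toFun v j k i := v ⟨k.1, Fin.cast k.2.symm i⟩
  map_add' _ _ := rfl
  map_smul' _ _ := rfl
  invFun w x := w ⟨d x.1, Nat.lt_succ_of_le (Finset.le_sup (Finset.mem_univ x.1))⟩ ⟨x.1, rfl⟩ x.2
  left_inv v := funext fun ⟨k, a⟩ => rfl
  right_inv w := funext fun ⟨j, hj⟩ => funext fun ⟨k, hk⟩ => funext fun i => by
    simp only at hk
    subst hk
    rfl

theorem groupEquiv_jt (d : Fin t → ℕ) (v : ((k : Fin t) × Fin (d k)) → F)
    (j : Fin (Finset.univ.sup d + 1)) (k : {k // d k = j.1}) :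
    groupEquiv F d (jt F d v) j k = jb F j.1 (groupEquiv F d v j k) := by
  obtain ⟨j, hj⟩ := j
  obtain ⟨k, hk⟩ := k
  simp only at hk
  subst hk
  funext i
  exact jt_apply d v k _

/-- Splitting an even number of equal blocks into pairs. -/
theorem exists_pairs {κ : Type*} [Fintype κ] (hκ : Even (Fintype.card κ)) {X : Type*} [AddCommGroup X]
    [Module F X] : ∃ (b : ℕ) (L : (κ → X) ≃ₗ[F] (Fin b → X × X)),
      ∀ (f : Module.End F X) (v : κ → X) (i : Fin b), L (fun k => f (v k)) i = (f.prodMap f) (L v i) := by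
  obtain ⟨b, hb⟩ := hκ
  let e : κ ≃ Fin b ⊕ Fin b := Fintype.equivOfCardEq (by simp [hb])
  exact ⟨b,
    { toFun := fun w i => (w (e.symm (.inl i)), w (e.symm (.inr i)))
      map_add' := fun _ _ => rfl
      map_smul' := fun _ _ => rfl
      invFun := fun z k => Sum.elim (fun i => (z i).1) (fun i => (z i).2) (e k)
      left_inv := fun w => funext fun k => by
        rcases h : e k with i | i <;>
        · have h' := e.symm_apply_eq.mpr h.symm
          simp only [h, Sum.elim_inl, Sum.elim_inr]
          exact congrArg w h'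
      right_inv := fun z => funext fun i => by simp },
    fun f v i => rfl⟩

theorem hasAlt_type (d : Fin t → ℕ) (good : ℕ → Prop) (hgood : ∀ j, good j → HasAlt (jb F j))
    (hbad : ∀ j, ¬ good j → Even (Finset.univ.filter (fun k => d k = j)).card) : HasAlt (jt F d) := by
  classical
  have hfib : ∀ j : Fin (Finset.univ.sup d + 1),
      HasAlt ((LinearMap.pi fun k => jb F j.1 ∘ₗ LinearMap.proj k :
        Module.End F ({k // d k = j.1} → Fin j.1 → F))) := by
    intro j
    by_cases hj : good j.1
    · exact HasAlt.pi (fun _ => hgood _ hj) _ fun v k => rfl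
    · obtain ⟨b, L, hL⟩ := exists_pairs (F := F) (κ := {k // d k = j.1}) (X := Fin j.1 → F)
        (by rw [Fintype.card_subtype]; exact hbad _ hj)
      exact HasAlt.congr (HasAlt.pi (fun _ : Fin b => hasAlt_pair j.1)
        (LinearMap.pi fun i => (jb F j.1).prodMap (jb F j.1) ∘ₗ LinearMap.proj i) fun v i => rfl) L
        fun v => funext fun i => hL (jb F j.1) v i
  exact HasAlt.congr (HasAlt.pi hfib (LinearMap.pi fun j =>
      (LinearMap.pi fun k => jb F j.1 ∘ₗ LinearMap.proj k) ∘ₗ LinearMap.proj j) fun v j => rfl)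
    (groupEquiv F d) fun v => funext fun j => funext fun k => groupEquiv_jt d v j k

theorem hasQuad_type (d : Fin t → ℕ) (good : ℕ → Prop) (hgood : ∀ j, good j → HasQuad (jb F j))
    (hbad : ∀ j, ¬ good j → Even (Finset.univ.filter (fun k => d k = j)).card) : HasQuad (jt F d) := by
  classical
  have hfib : ∀ j : Fin (Finset.univ.sup d + 1),
      HasQuad ((LinearMap.pi fun k => jb F j.1 ∘ₗ LinearMap.proj k :
        Module.End F ({k // d k = j.1} → Fin j.1 → F))) := by
    intro j
    by_cases hj : good j.1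
    · exact HasQuad.pi (fun _ => hgood _ hj) _ fun v k => rfl
    · obtain ⟨b, L, hL⟩ := exists_pairs (F := F) (κ := {k // d k = j.1}) (X := Fin j.1 → F)
        (by rw [Fintype.card_subtype]; exact hbad _ hj)
      exact HasQuad.congr (HasQuad.pi (fun _ : Fin b => hasQuad_pair j.1)
        (LinearMap.pi fun i => (jb F j.1).prodMap (jb F j.1) ∘ₗ LinearMap.proj i) fun v i => rfl) L
        fun v => funext fun i => hL (jb F j.1) v i
  exact HasQuad.congr (HasQuad.pi hfib (LinearMap.pi fun j =>
      (LinearMap.pi fun k => jb F j.1 ∘ₗ LinearMap.proj k) ∘ₗ LinearMap.proj j) fun v j => rfl)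
    (groupEquiv F d) fun v => funext fun j => funext fun k => groupEquiv_jt d v j k

/-! ### Necessity -/

theorem jt_sub_pow_apply (d : Fin t → ℕ) : ∀ (s : ℕ) (v : ((k : Fin t) × Fin (d k)) → F)
    (k : Fin t) (a : Fin (d k)), ((jt F d - 1) ^ s) v ⟨k, a⟩ = (jn F (d k) ^ s) (fun b => v ⟨k, b⟩) a := by
  intro s
  induction s with
  | zero => intro v k a; simp
  | succ s ih =>
    intro v k a
    rw [pow_succ', Module.End.mul_apply, pow_succ', Module.End.mul_apply]
    simp only [LinearMap.sub_apply, Module.End.one_apply, Pi.sub_apply, jt_apply, jn_apply, ih]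

theorem finrank_range_jt (d : Fin t → ℕ) (s : ℕ) :
    finrank F (LinearMap.range ((jt F d - 1) ^ s)) = ∑ k, (d k - s) := by
  let E : (((k : Fin t) × Fin (d k - s)) → F) →ₗ[F] ((k : Fin t) × Fin (d k)) → F :=
    { toFun := fun g x => if h : s ≤ x.2.1 then g ⟨x.1, ⟨x.2.1 - s, by have := x.2.2; omega⟩⟩ else 0
      map_add' := fun f g => funext fun x => by dsimp; split_ifs <;> simp
      map_smul' := fun c f => funext fun x => by dsimp; split_ifs <;> simp }
  have hE : Function.Injective E := fun f g h => funext fun ⟨k, i, hi⟩ => by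
    have := congrFun h ⟨k, ⟨i + s, by omega⟩⟩
    simpa [E] using this
  have hr : LinearMap.range ((jt F d - 1) ^ s) = LinearMap.range E := by
    apply le_antisymm
    · rintro _ ⟨v, rfl⟩
      refine ⟨fun x => v ⟨x.1, ⟨x.2.1, by have := x.2.2; omega⟩⟩, funext fun ⟨k, a⟩ => ?_⟩
      rw [jt_sub_pow_apply, jn_pow_apply]
      simp only [E, LinearMap.coe_mk, AddHom.coe_mk]
      split_ifs <;> rfl
    · rintro _ ⟨g, rfl⟩
      refine ⟨fun x => if h : x.2.1 < d x.1 - s then g ⟨x.1, ⟨x.2.1, h⟩⟩ else 0, funext fun ⟨k, a⟩ => ?_⟩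
      rw [jt_sub_pow_apply, jn_pow_apply]
      simp only [E, LinearMap.coe_mk, AddHom.coe_mk]
      split_ifs <;> first | rfl | omega
  rw [hr, LinearMap.finrank_range_of_inj hE, Module.finrank_pi, Fintype.card_sigma]
  simp

theorem count_identity (d : Fin t → ℕ) (s : ℕ) :
    (Finset.univ.filter (fun k => d k = s + 1)).card + 2 * ∑ k, (d k - (s + 1)) =
      (∑ k, (d k - s)) + ∑ k, (d k - (s + 2)) := by
  rw [Finset.card_filter, Finset.mul_sum, ← Finset.sum_add_distrib, ← Finset.sum_add_distrib]
  exact Finset.sum_congr rfl fun k _ => by split_ifs <;> omega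

theorem isUnit_jt (d : Fin t → ℕ) : IsUnit (jt F d) := by
  have hN : IsNilpotent (jt F d - 1) := ⟨Finset.univ.sup d, LinearMap.ext fun v => funext fun ⟨k, a⟩ => by
    rw [jt_sub_pow_apply, jn_pow_apply, if_neg (by
      have := Finset.le_sup (f := d) (Finset.mem_univ k); omega)]
    rfl⟩
  have := hN.isUnit_one_add
  rwa [add_sub_cancel] at this

/-- In a symplectic group the odd block sizes occur an even number of times. -/
theorem even_of_hasAlt {d : Fin t → ℕ} (h : HasAlt (jt F d)) {j : ℕ} (hj : Odd j) :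
    Even (Finset.univ.filter (fun k => d k = j)).card := by
  obtain ⟨B, h1, h2, h3⟩ := h
  obtain ⟨i, rfl⟩ := hj
  have hr : LinearMap.BilinForm.IsRefl B := fun x y hxy => by
    have h := h1 (x + y)
    simp only [map_add, LinearMap.add_apply, h1, zero_add, add_zero, hxy] at h
    exact h
  refine even_multiplicity B (hr.nondegenerate_iff_separatingLeft.mpr h2) hr
    (LinearEquiv.ofBijective (jt F d) ((Module.End.isUnit_iff _).mp (isUnit_jt d))) h3
    (jt F d - 1) (fun x => rfl) (2 * i) i i (by omega) (fun x _ => h1 _) _ ?_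
  simp only [finrank_range_jt]
  exact count_identity d (2 * i)

/-- In an orthogonal group in odd characteristic the even block sizes occur an even number of times. -/
theorem even_of_hasQuad (h0 : (2 : F) ≠ 0) {d : Fin t → ℕ} (h : HasQuad (jt F d)) {j : ℕ}
    (hj : Even j) (hj0 : 0 < j) : Even (Finset.univ.filter (fun k => d k = j)).card := by
  obtain ⟨Q, h2, h3⟩ := h
  obtain ⟨i, rfl⟩ := hj
  obtain ⟨i, rfl⟩ : ∃ i', i = i' + 1 := ⟨i - 1, by omega⟩
  have hr : LinearMap.BilinForm.IsRefl (QuadraticMap.polarBilin Q) := fun x y hxy => by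
    simpa [QuadraticMap.polar_comm] using hxy
  have hinv : ∀ v w, QuadraticMap.polar Q (jt F d v) (jt F d w) = QuadraticMap.polar Q v w := fun v w => by
    simp only [QuadraticMap.polar, ← map_add (jt F d), h3]
  refine even_multiplicity (QuadraticMap.polarBilin Q) (hr.nondegenerate_iff_separatingLeft.mpr h2) hr
    (LinearEquiv.ofBijective (jt F d) ((Module.End.isUnit_iff _).mp (isUnit_jt d))) hinv
    (jt F d - 1) (fun x => rfl) (2 * i + 1) (i + 1) i (by omega) (fun x hx => ?_) _ ?_
  · set N := jt F d - 1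
    set v := (N ^ i) x
    have hNv : (N ^ (i + 1)) x = N v := by rw [pow_succ', Module.End.mul_apply]
    rw [hNv, QuadraticMap.polarBilin_apply_apply, QuadraticMap.polar_comm]
    have hadj : ∀ (k : ℕ) a b, (N ^ k) a = 0 →
        QuadraticMap.polar Q a ((N ^ k) b) = 0 := by
      intro k
      induction k with
      | zero => intro a b ha; simp at ha; simp [ha]
      | succ k ih =>
        intro a b ha
        have hA : IsUnit (jt F d) := isUnit_jt d
        obtain ⟨a', rfl⟩ := ((Module.End.isUnit_iff _).mp hA).2 a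
        have hcom : ∀ m y, (N ^ m) (jt F d y) = jt F d ((N ^ m) y) := fun m y => by
          have hc : Commute (N ^ m) (jt F d) :=
            Commute.pow_left (by simp [N, Commute, SemiconjBy, mul_sub, sub_mul]) m
          exact LinearMap.congr_fun hc y
        have ha' : (N ^ (k + 1)) a' = 0 := by
          rw [hcom] at ha
          exact ((Module.End.isUnit_iff _).mp hA).1 (ha.trans (map_zero _).symm)
        have hstep : QuadraticMap.polar Q (jt F d a') (N ((N ^ k) b)) =
            - QuadraticMap.polar Q (N a') ((N ^ k) b) := by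
          rw [show N ((N ^ k) b) = jt F d ((N ^ k) b) - (N ^ k) b from rfl,
            QuadraticMap.polar_sub_right, hinv,
            show jt F d a' = a' + N a' by simp [N], QuadraticMap.polar_add_left]
          ring
        rw [pow_succ', Module.End.mul_apply, hstep, ih (N a') b
          (by rw [← Module.End.mul_apply, ← pow_succ]; exact ha'), neg_zero]
    have hQNv : QuadraticMap.polar Q (N v) (N v) = 0 := by
      rw [← hNv]
      refine hadj (i + 1) _ x ?_
      rw [← Module.End.mul_apply, ← pow_add, show i + 1 + (i + 1) = 2 * i + 1 + 1 by omega]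
      exact hx
    have hh := h3 v
    rw [show jt F d v = v + N v by simp [N], QuadraticMap.map_add Q v (N v)] at hh
    rw [QuadraticMap.polar_self, nsmul_eq_mul] at hQNv
    have : Q (N v) = 0 := by simpa [h0] using hQNv
    linear_combination hh - this
  · simp only [finrank_range_jt]
    rw [show i + 1 + (i + 1) = 2 * i + 1 + 1 by omega]
    exact count_identity d (2 * i + 1)

end CfsgLib.UnipotentClassical
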