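import Cfsg.Agent.Lib.UnipotentClassical.Assemble
import Cfsg.Prelude.Def_Classical

/-!
Translations between invariant forms and membership in the classical matrix groups.
-/

set_option autoImplicit false
set_option maxHeartbeats 200000

namespace CfsgLib.UnipotentClassical

open Module Matrix

variable {F : Type*} [Field F] {t : ℕ} {d : Fin t → ℕ}

/-- Conjugacy of matrices gives an intertwining linear equivalence. -/
theorem exists_equiv_of_isConj {ι : Type} [Fintype ι] [DecidableEq ι]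
    (e : ((k : Fin t) × Fin (d k)) ≃ ι) {A : Matrix ι ι F}
    (h : IsConj (Matrix.reindex e e (Cfsg.jordanTypeMatrix d F)) A) :
    ∃ L : (((k : Fin t) × Fin (d k)) → F) ≃ₗ[F] (ι → F), ∀ v, L (jt F d v) = A *ᵥ L v := by
  obtain ⟨c, hc⟩ := h
  refine ⟨(LinearEquiv.funCongrLeft F F e.symm).trans
    (Matrix.toLinearEquiv' (c : Matrix ι ι F) c.invertible), fun v => ?_⟩
  show (c : Matrix ι ι F) *ᵥ ((jt F d v) ∘ e.symm) = A *ᵥ ((c : Matrix ι ι F) *ᵥ (v ∘ e.symm))
  rw [Matrix.mulVec_mulVec, ← hc.eq, ← Matrix.mulVec_mulVec, Matrix.reindex_apply,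
    Matrix.submatrix_mulVec_equiv]
  simp [jt, Function.comp_assoc]

/-- An intertwining linear equivalence gives conjugacy of matrices. -/
theorem isConj_of_equiv {ι : Type} [Fintype ι] [DecidableEq ι]
    (e : ((k : Fin t) × Fin (d k)) ≃ ι)
    (L : (((k : Fin t) × Fin (d k)) → F) ≃ₗ[F] (ι → F)) {A : Matrix ι ι F}
    (hA : ∀ v, A *ᵥ L v = L (jt F d v)) :
    IsConj (Matrix.reindex e e (Cfsg.jordanTypeMatrix d F)) A := by
  let M : (ι → F) ≃ₗ[F] (ι → F) := (LinearEquiv.funCongrLeft F F e).trans L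
  let c : GL ι F :=
    Matrix.GeneralLinearGroup.toLin.symm (LinearMap.GeneralLinearGroup.ofLinearEquiv M)
  have hc : ∀ x, (c : Matrix ι ι F) *ᵥ x = M x := fun x => by
    have : ∀ g : GL ι F, (g : Matrix ι ι F) *ᵥ x =
        (Matrix.GeneralLinearGroup.toLin g : (ι → F) →ₗ[F] (ι → F)) x := fun g => by simp
    rw [this, MulEquiv.apply_symm_apply]
    rfl
  refine ⟨c, Matrix.ext_iff_mulVec.mpr fun x => ?_⟩
  rw [← Matrix.mulVec_mulVec, ← Matrix.mulVec_mulVec, hc, hc, Matrix.reindex_apply,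
    Matrix.submatrix_mulVec_equiv]
  show L _ = A *ᵥ L _
  rw [hA]
  congr 1
  funext y
  simp [jt, LinearMap.funLeft_apply]
  rfl

/-- Membership in the symplectic group. -/
theorem symplectic_iff {m : ℕ} (hsum : ∑ k, d k = 2 * m) :
    (∃ e : ((k : Fin t) × Fin (d k)) ≃ (Fin m ⊕ Fin m), ∃ A : Matrix.symplecticGroup (Fin m) F,
      IsConj (Matrix.reindex e e (Cfsg.jordanTypeMatrix d F))
        (A : Matrix (Fin m ⊕ Fin m) (Fin m ⊕ Fin m) F)) ↔ HasAlt (jt F d) := by
  constructor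
  · rintro ⟨e, A, hA⟩
    obtain ⟨L, hL⟩ := exists_equiv_of_isConj e hA
    refine HasAlt.congr (w := (A : Matrix (Fin m ⊕ Fin m) (Fin m ⊕ Fin m) F).mulVecLin) ?_ L hL
    exact ⟨LinearMap.mk₂ F (Cfsg.sympForm m F) CfsgLib.Linear.Symp.form_add_left
      CfsgLib.Linear.Symp.form_smul_left CfsgLib.Linear.Symp.form_add_right
      CfsgLib.Linear.Symp.form_smul_right, CfsgLib.Linear.Symp.form_self,
      fun v hv => CfsgLib.Linear.Symp.eq_zero_of_forall_form hv,
      fun v w => CfsgLib.Linear.Symp.form_mulVec A.2 v w⟩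
  · rintro ⟨B, h1, h2, h3⟩
    obtain ⟨m', L, hL⟩ := CfsgLib.LinFix.exists_sympEquiv B h1 h2
    have hm : m' = m := by
      have := L.finrank_eq
      rw [Module.finrank_pi, Module.finrank_pi, Fintype.card_sigma, Fintype.card_sum] at this
      simp [hsum] at this
      omega
    subst hm
    let e : ((k : Fin t) × Fin (d k)) ≃ (Fin m' ⊕ Fin m') :=
      Fintype.equivOfCardEq (by simp [Fintype.card_sigma, hsum]; omega)
    let A : Matrix (Fin m' ⊕ Fin m') (Fin m' ⊕ Fin m') F :=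
      LinearMap.toMatrix' (L.toLinearMap ∘ₗ jt F d ∘ₗ L.symm.toLinearMap)
    have hA : ∀ v, A *ᵥ L v = L (jt F d v) := fun v => by
      rw [← Matrix.toLin'_apply, Matrix.toLin'_toMatrix']
      simp
    refine ⟨e, ⟨A, CfsgLib.Linear.Symp.mem_of_form_mulVec fun x y => ?_⟩, isConj_of_equiv e L hA⟩
    obtain ⟨x, rfl⟩ := L.surjective x
    obtain ⟨y, rfl⟩ := L.surjective y
    rw [hA, hA, ← hL, ← hL, h3]

theorem polar_nondegenerate_iff {V : Type*} [AddCommGroup V] [Module F V] [FiniteDimensional F V]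
    (Q : QuadraticForm F V) : (QuadraticMap.polarBilin Q).Nondegenerate ↔
      ∀ v, (∀ w, QuadraticMap.polar Q v w = 0) → v = 0 := by
  have hr : LinearMap.BilinForm.IsRefl (QuadraticMap.polarBilin Q) := fun x y hxy => by
    simpa [QuadraticMap.polar_comm] using hxy
  exact hr.nondegenerate_iff_separatingLeft

/-- Membership in an orthogonal group. -/
theorem orthogonal_iff {n : ℕ} (hsum : ∑ k, d k = n) :
    (∃ Q : QuadraticForm F (Fin n → F), (QuadraticMap.polarBilin Q).Nondegenerate ∧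
      ∃ e : ((k : Fin t) × Fin (d k)) ≃ Fin n, ∃ A : ↥(Cfsg.isometryGroup F ⇑Q),
        IsConj (Matrix.reindex e e (Cfsg.jordanTypeMatrix d F))
          ((A : Matrix.GeneralLinearGroup (Fin n) F) : Matrix (Fin n) (Fin n) F)) ↔
      HasQuad (jt F d) := by
  constructor
  · rintro ⟨Q, hQ, e, A, hA⟩
    obtain ⟨L, hL⟩ := exists_equiv_of_isConj e hA
    refine HasQuad.congr (w := ((A : Matrix.GeneralLinearGroup (Fin n) F) : Matrix (Fin n) (Fin n) F).mulVecLin)
      ?_ L hL
    exact ⟨Q, (polar_nondegenerate_iff Q).mp hQ, fun v => A.2 v v⟩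
  · intro h
    let e : ((k : Fin t) × Fin (d k)) ≃ Fin n :=
      Fintype.equivFinOfCardEq (by simp [Fintype.card_sigma, hsum])
    let L : (((k : Fin t) × Fin (d k)) → F) ≃ₗ[F] (Fin n → F) := LinearEquiv.funCongrLeft F F e.symm
    let u : Module.End F (Fin n → F) := L.toLinearMap ∘ₗ jt F d ∘ₗ L.symm.toLinearMap
    obtain ⟨Q, hQ, hQu⟩ := h.congr (u := u) L.symm fun v => by simp [u]
    let A : Matrix (Fin n) (Fin n) F := LinearMap.toMatrix' u
    have hA : ∀ v, A *ᵥ v = u v := fun v => by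
      rw [← Matrix.toLin'_apply, Matrix.toLin'_toMatrix']
    have hu : IsUnit A := by
      rw [← Matrix.mulVec_injective_iff_isUnit]
      intro x y hxy
      rw [hA, hA] at hxy
      have := ((Module.End.isUnit_iff _).mp (isUnit_jt (F := F) d)).1 (L.injective hxy)
      exact L.symm.injective this
    refine ⟨Q, (polar_nondegenerate_iff Q).mpr hQ, e, ⟨hu.unit, fun x y => ?_⟩,
      isConj_of_equiv e L fun v => ?_⟩
    · show Q (A *ᵥ x) = Q x
      rw [hA, hQu]
    · show A *ᵥ L v = L (jt F d v)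
      rw [hA]
      simp [u]

end CfsgLib.UnipotentClassical
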