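import Mathlib
import Cfsg.Prelude.Def_JordanBlocks

/-!
Existence of invariant forms for unipotent maps of given Jordan type.
-/

set_option autoImplicit false
set_option maxHeartbeats 200000

namespace CfsgLib.UnipotentClassical

open Module

variable {F : Type*} [Field F]

/-- The action of a Jordan block. -/
noncomputable def jb (F : Type*) [Field F] (n : ℕ) : Module.End F (Fin n → F) :=
  (Cfsg.jordanBlock n F).mulVecLin

theorem jb_apply (n : ℕ) (v : Fin n → F) (i : Fin n) :
    jb F n v i = v i + if (i : ℕ) ≠ 0 then v ⟨i.1 - 1, lt_of_le_of_lt (Nat.sub_le _ _) i.2⟩ else 0 := by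
  simp only [jb, Matrix.mulVecLin_apply, Matrix.mulVec, dotProduct, Cfsg.jordanBlock, Matrix.of_apply]
  have h : ∀ j : Fin n, (if (i : ℕ) = j then (1 : F) else if (i : ℕ) = (j : ℕ) + 1 then 1 else 0) * v j =
      (if i = j then v j else 0) +
        (if (i : ℕ) ≠ 0 ∧ (⟨i.1 - 1, lt_of_le_of_lt (Nat.sub_le _ _) i.2⟩ : Fin n) = j then v j else 0) := by
    intro j
    simp only [Fin.ext_iff]
    split_ifs <;> first | omega | simp
  simp only [h, Finset.sum_add_distrib, Finset.sum_ite_eq, Finset.mem_univ, if_true, add_right_inj]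
  by_cases hi : (i : ℕ) = 0
  · simp [hi]
  · simp [hi]

/-- The nilpotent part of a Jordan block. -/
noncomputable def jn (F : Type*) [Field F] (n : ℕ) : Module.End F (Fin n → F) := jb F n - 1

theorem jn_apply (n : ℕ) (v : Fin n → F) : jn F n v = jb F n v - v := rfl

theorem jn_pow_apply (n : ℕ) : ∀ (k : ℕ) (v : Fin n → F) (i : Fin n),
    (jn F n ^ k) v i =
      if k ≤ (i : ℕ) then v ⟨i.1 - k, lt_of_le_of_lt (Nat.sub_le _ _) i.2⟩ else 0 := by
  intro k
  induction k with
  | zero => intro v i; simp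
  | succ k ih =>
    intro v i
    rw [pow_succ', Module.End.mul_apply, jn_apply, Pi.sub_apply, jb_apply, add_sub_cancel_left]
    simp only [ih]
    split_ifs <;> first | omega | rfl | (congr 2; omega)

theorem jn_pow_self (n : ℕ) : jn F n ^ n = 0 :=
  LinearMap.ext fun v => funext fun i => by
    rw [jn_pow_apply, if_neg (by omega)]
    rfl

theorem jn_pow_single (n : ℕ) (hn : 0 < n) (k : ℕ) (hk : k < n) :
    (jn F n ^ k) (Pi.single ⟨0, hn⟩ 1) = Pi.single ⟨k, hk⟩ 1 := by
  funext i
  simp only [jn_pow_apply, Pi.single_apply, Fin.ext_iff]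
  split_ifs <;> first | omega | rfl

/-- A cyclic nilpotent map is a Jordan block. -/
theorem exists_cyclic_equiv {V : Type*} [AddCommGroup V] [Module F V] [FiniteDimensional F V] {n : ℕ}
    (hV : finrank F V = n) (N : Module.End F V) (hN : N ^ n = 0) (f : V) (hf : (N ^ (n - 1)) f ≠ 0) :
    ∃ L : (Fin n → F) ≃ₗ[F] V, ∀ v, L (jb F n v) = L v + N (L v) := by
  let L : (Fin n → F) →ₗ[F] V :=
    { toFun := fun v => ∑ i, v i • (N ^ (i : ℕ)) f
      map_add' := fun v w => by simp [add_smul, Finset.sum_add_distrib]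
      map_smul' := fun c v => by simp [Finset.smul_sum, mul_smul] }
  have hinj : Function.Injective L := by
    rw [injective_iff_map_eq_zero]
    classical
    intro v hv
    by_contra h
    obtain ⟨i, hi⟩ := Function.ne_iff.mp h
    obtain ⟨k, hk, hmin⟩ : ∃ k : Fin n, v k ≠ 0 ∧ ∀ i : Fin n, i < k → v i = 0 := by
      have hne : (Finset.univ.filter fun i => v i ≠ 0).Nonempty := ⟨i, by simpa using hi⟩
      refine ⟨(Finset.univ.filter fun i => v i ≠ 0).min' hne, ?_, fun j hj => ?_⟩
      · simpa using (Finset.univ.filter fun i => v i ≠ 0).min'_mem hne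
      · by_contra hj0
        exact absurd (Finset.min'_le _ j (by simpa using hj0)) (not_le.mpr hj)
    have h1 := congrArg (N ^ (n - 1 - (k : ℕ))) hv
    simp only [L, LinearMap.coe_mk, AddHom.coe_mk, map_sum, map_smul, map_zero] at h1
    rw [Finset.sum_eq_single k] at h1
    · rw [← Module.End.mul_apply, ← pow_add, show n - 1 - (k : ℕ) + k = n - 1 by omega] at h1
      exact hk ((smul_eq_zero.mp h1).resolve_right hf)
    · intro j _ hj
      rcases lt_or_gt_of_ne hj with hlt | hgt
      · rw [hmin j hlt, zero_smul]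
      · rw [← Module.End.mul_apply, ← pow_add,
          pow_eq_zero_of_le (by have := Fin.lt_def.mp hgt; omega) hN]
        simp
    · simp
  let e := LinearEquiv.ofInjectiveOfFinrankEq L hinj (by rw [hV, Module.finrank_fin_fun])
  have key : L ∘ₗ jb F n = L + N ∘ₗ L := by
    refine (Pi.basisFun F (Fin n)).ext fun j => ?_
    simp only [Pi.basisFun_apply, LinearMap.comp_apply, LinearMap.add_apply]
    have hs : ∀ i, L (Pi.single i 1) = (N ^ (i : ℕ)) f := fun i => by
      simp [L, Pi.single_apply]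
    rw [hs, ← Module.End.mul_apply, ← pow_succ']
    by_cases hj : (j : ℕ) + 1 < n
    · have : jb F n (Pi.single j 1) = Pi.single j 1 + Pi.single ⟨j + 1, hj⟩ 1 := by
        funext i
        simp only [jb_apply, Pi.add_apply, Pi.single_apply, Fin.ext_iff]
        congr 1
        split_ifs <;> first | omega | rfl
      rw [this, map_add, hs, hs]
    · have : jb F n (Pi.single j 1) = Pi.single j 1 := by
        funext i
        simp only [jb_apply, Pi.single_apply, Fin.ext_iff]
        rw [add_eq_left]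
        split_ifs <;> first | omega | rfl
      rw [this, hs, pow_eq_zero_of_le (show n ≤ (j : ℕ) + 1 by omega) hN]
      simp
  exact ⟨e, fun v => LinearMap.congr_fun key v⟩

/-- An invariant perfect pairing between two Jordan blocks of the same size. -/
theorem exists_pairing (n : ℕ) : ∃ P : (Fin n → F) →ₗ[F] (Fin n → F) →ₗ[F] F,
    (∀ v w, P (jb F n v) (jb F n w) = P v w) ∧ (∀ v, (∀ w, P v w = 0) → v = 0) ∧
      ∀ w, (∀ v, P v w = 0) → w = 0 := by
  rcases Nat.eq_zero_or_pos n with rfl | hn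
  · exact ⟨0, fun v w => rfl, fun v _ => Subsingleton.elim _ _, fun w _ => Subsingleton.elim _ _⟩
  have hN : IsNilpotent (jn F n) := ⟨n, jn_pow_self n⟩
  obtain ⟨T, hT⟩ : ∃ T : (Fin n → F) ≃ₗ[F] (Fin n → F), (T : Module.End F (Fin n → F)) = jb F n := by
    have hu : IsUnit (jb F n) := by
      have := hN.isUnit_one_add
      rwa [jn, add_sub_cancel] at this
    exact ⟨LinearEquiv.ofBijective (jb F n) ((Module.End.isUnit_iff _).mp hu), rfl⟩
  have hTS : ∀ v, jb F n v = T v := fun v => (LinearMap.congr_fun hT v).symm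
  let S : Module.End F (Fin n → F) := T.symm.toLinearMap
  have hS1 : ∀ x, S x = T.symm x := fun x => rfl
  let M : Module.End F (Fin n → F) := S - 1
  let N' : Module.End F (Module.Dual F (Fin n → F)) := M.dualMap
  have hpow : ∀ (k : ℕ) (φ : Module.Dual F (Fin n → F)) x, (N' ^ k) φ x = φ ((M ^ k) x) := by
    intro k
    induction k with
    | zero => intro φ x; simp
    | succ k ih =>
      intro φ x
      rw [pow_succ, Module.End.mul_apply, ih, pow_succ', Module.End.mul_apply]
      rfl
  have hcomm : Commute S (jn F n) :=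
    LinearMap.ext fun x => by simp [hS1, jn_apply, hTS, map_sub]
  have hM : M = (-1 : F) • (S * jn F n) :=
    LinearMap.ext fun x => by simp [M, hS1, jn_apply, hTS, map_sub]
  have hMk : ∀ k, M ^ k = (-1 : F) ^ k • (S ^ k * jn F n ^ k) := fun k => by
    rw [hM, smul_pow, hcomm.mul_pow]
  have hMn : M ^ n = 0 := by rw [hMk, jn_pow_self, mul_zero, smul_zero]
  have hN' : N' ^ n = 0 := LinearMap.ext fun φ => LinearMap.ext fun x => by
    rw [hpow, hMn]; simp
  have hne : M ^ (n - 1) ≠ 0 := by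
    intro h
    rw [hMk] at h
    have h1 := LinearMap.congr_fun h (Pi.single ⟨0, hn⟩ 1)
    rw [LinearMap.smul_apply, Module.End.mul_apply, jn_pow_single n hn _ (by omega)] at h1
    have hS : ∀ (k : ℕ) y, (S ^ k) y = 0 → y = 0 := by
      intro k
      induction k with
      | zero => intro y hy; simpa using hy
      | succ k ih =>
        intro y hy
        rw [pow_succ, Module.End.mul_apply] at hy
        exact T.symm.map_eq_zero_iff.mp (ih _ hy)
    have h2 : (S ^ (n - 1)) (Pi.single ⟨n - 1, by omega⟩ 1) = 0 := by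
      rcases Nat.even_or_odd (n - 1) with hp | hp <;> simpa [hp.neg_one_pow] using h1
    have h3 := hS (n - 1) _ h2
    simp [Pi.single_eq_zero_iff] at h3
  obtain ⟨x, hx⟩ : ∃ x, (M ^ (n - 1)) x ≠ 0 := by
    by_contra! h
    exact hne (LinearMap.ext h)
  obtain ⟨φ, hφ⟩ : ∃ φ : Module.Dual F (Fin n → F), φ ((M ^ (n - 1)) x) ≠ 0 := by
    by_contra! h
    exact hx ((Module.forall_dual_apply_eq_zero_iff F _).mp h)
  obtain ⟨L, hL⟩ := exists_cyclic_equiv (by rw [Subspace.dual_finrank_eq, Module.finrank_fin_fun]) N' hN' φ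
    (fun h => hφ (by rw [← hpow, h]; rfl))
  refine ⟨L.toLinearMap, fun v w => ?_, fun v hv => L.map_eq_zero_iff.mp (LinearMap.ext hv), fun w hw => ?_⟩
  · show L (jb F n v) (jb F n w) = L v w
    rw [hL, hTS, LinearMap.add_apply, show N' (L v) (T w) = L v (M (T w)) from rfl, ← map_add]
    simp [M, hS1]
  · refine (Module.forall_dual_apply_eq_zero_iff F _).mp fun ψ => ?_
    have := hw (L.symm ψ)
    rwa [LinearEquiv.coe_coe, L.apply_symm_apply] at this

/-- `u` preserves a non-degenerate alternating form. -/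
def HasAlt {V : Type*} [AddCommGroup V] [Module F V] (u : Module.End F V) : Prop :=
  ∃ B : V →ₗ[F] V →ₗ[F] F, (∀ v, B v v = 0) ∧ (∀ v, (∀ w, B v w = 0) → v = 0) ∧
    ∀ v w, B (u v) (u w) = B v w

/-- `u` preserves a quadratic form with non-degenerate polar form. -/
def HasQuad {V : Type*} [AddCommGroup V] [Module F V] (u : Module.End F V) : Prop :=
  ∃ Q : QuadraticForm F V, (∀ v, (∀ w, QuadraticMap.polar Q v w = 0) → v = 0) ∧
    ∀ v, Q (u v) = Q v

theorem HasAlt.congr {V W : Type*} [AddCommGroup V] [Module F V] [AddCommGroup W] [Module F W]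
    {u : Module.End F V} {w : Module.End F W} (h : HasAlt w) (L : V ≃ₗ[F] W)
    (hL : ∀ v, L (u v) = w (L v)) : HasAlt u := by
  obtain ⟨B, h1, h2, h3⟩ := h
  refine ⟨B.compl₁₂ L.toLinearMap L.toLinearMap, fun v => h1 _, fun v hv => ?_, fun v x => ?_⟩
  · exact L.map_eq_zero_iff.mp (h2 _ fun y => by simpa using hv (L.symm y))
  · simp [hL, h3]

theorem HasQuad.congr {V W : Type*} [AddCommGroup V] [Module F V] [AddCommGroup W] [Module F W]
    {u : Module.End F V} {w : Module.End F W} (h : HasQuad w) (L : V ≃ₗ[F] W)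
    (hL : ∀ v, L (u v) = w (L v)) : HasQuad u := by
  obtain ⟨Q, h2, h3⟩ := h
  refine ⟨Q.comp L.toLinearMap, fun v hv => ?_, fun v => ?_⟩
  · refine L.map_eq_zero_iff.mp (h2 _ fun y => ?_)
    have := hv (L.symm y)
    simpa [QuadraticMap.polar, map_add] using this
  · simp [hL, h3]

/-- The extension step. -/
noncomputable def extMap {n : ℕ} (φ : (Fin n → F) →ₗ[F] F) (c : F) (e : Fin n → F) :
    Module.End F (F × (Fin n → F) × F) where
  toFun x := (φ x.2.1 + x.2.2 * c, jn F n x.2.1 + x.2.2 • e, 0)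
  map_add' x y := by simp [add_mul, add_smul]; constructor <;> abel
  map_smul' r x := by simp [mul_add, mul_assoc, smul_add, mul_smul]

theorem extMap_equiv {n : ℕ} (hn : 0 < n) (φ : (Fin n → F) →ₗ[F] F) (c : F)
    (hφ : φ (Pi.single ⟨n - 1, by omega⟩ 1) ≠ 0) :
    ∃ L : (Fin (n + 2) → F) ≃ₗ[F] F × (Fin n → F) × F,
      ∀ v, L (jb F (n + 2) v) = L v + extMap φ c (Pi.single ⟨0, hn⟩ 1) (L v) := by
  set N := extMap φ c (Pi.single ⟨0, hn⟩ 1)
  have hk : ∀ (k : ℕ) (a : F) (v : Fin n → F),
      (N ^ (k + 1)) (a, v, 0) = (φ ((jn F n ^ k) v), (jn F n ^ (k + 1)) v, 0) := by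
    intro k
    induction k with
    | zero => intro a v; simp [N, extMap]
    | succ k ih =>
      intro a v
      rw [pow_succ' N, Module.End.mul_apply, ih, pow_succ' (jn F n) (k + 1)]
      simp [N, extMap]
  refine exists_cyclic_equiv (by simp [Module.finrank_prod]; omega) N ?_ (0, 0, 1) ?_
  · refine LinearMap.ext fun x => ?_
    rw [pow_succ, Module.End.mul_apply, show N x = ((N x).1, (N x).2.1, 0) from rfl, hk,
      jn_pow_self, pow_succ, jn_pow_self, zero_mul]
    simp
  · obtain ⟨m, rfl⟩ : ∃ m, n = m + 1 := ⟨n - 1, by omega⟩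
    have hN1 : N (0, 0, 1) = (c, Pi.single ⟨0, hn⟩ 1, 0) := by simp [N, extMap]
    rw [show m + 1 + 2 - 1 = m + 1 + 1 from rfl, pow_succ, Module.End.mul_apply, hN1, hk,
      jn_pow_single (m + 1) hn m (by omega)]
    intro h
    exact hφ (Prod.ext_iff.mp h).1

theorem polar_last_ne {n : ℕ} (hn : 0 < n) (B : (Fin n → F) →ₗ[F] (Fin n → F) →ₗ[F] F)
    (hB : ∀ v, (∀ w, B v w = 0) → v = 0) (hinv : ∀ v w, B (jb F n v) (jb F n w) = B v w) :
    B (Pi.single ⟨n - 1, by omega⟩ 1) (Pi.single ⟨0, hn⟩ 1) ≠ 0 := by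
  intro h0
  set z : Fin n → F := Pi.single ⟨n - 1, by omega⟩ 1
  have hz : jb F n z = z := by
    funext i
    simp only [jb_apply, z, Pi.single_apply, Fin.ext_iff, add_eq_left]
    split_ifs <;> first | omega | rfl
  have hzN : ∀ y, B z (jn F n y) = 0 := fun y => by
    rw [jn_apply, map_sub, sub_eq_zero]
    conv_lhs => rw [← hz]
    exact hinv z y
  have hz0 : z = 0 := hB z fun w => by
    have hdec : w = w ⟨0, hn⟩ • Pi.single ⟨0, hn⟩ 1 +
        jn F n (fun i => if h : (i : ℕ) + 1 < n then w ⟨i + 1, h⟩ else 0) := by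
      funext i
      rw [Pi.add_apply, Pi.smul_apply, ← pow_one (jn F n), jn_pow_apply, Pi.single_apply]
      simp only [Fin.ext_iff, smul_eq_mul]
      rcases Nat.eq_zero_or_pos (i : ℕ) with hi | hi
      · have : i = ⟨0, hn⟩ := Fin.ext hi
        simp [this]
      · rw [if_neg (by omega), if_pos (by omega), dif_pos (by omega), mul_zero, zero_add]
        congr 1
        ext
        simp only
        omega
    rw [hdec, map_add, map_smul, h0, hzN]
    simp
  simp [z, Pi.single_eq_zero_iff] at hz0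

theorem hasAlt_step {n : ℕ} (hn : 0 < n) (h : HasAlt (jb F n)) : HasAlt (jb F (n + 2)) := by
  obtain ⟨B, h1, h2, h3⟩ := h
  let φ : (Fin n → F) →ₗ[F] F := -((B.flip (Pi.single ⟨0, hn⟩ 1)) ∘ₗ jb F n)
  have hz : jb F n (Pi.single ⟨n - 1, by omega⟩ 1) = (Pi.single ⟨n - 1, by omega⟩ 1 : Fin n → F) := by
    funext i
    simp only [jb_apply, Pi.single_apply, Fin.ext_iff, add_eq_left]
    split_ifs <;> first | omega | rfl
  obtain ⟨L, hL⟩ := extMap_equiv hn φ 0 (by
    simpa [φ, hz] using polar_last_ne hn B h2 h3)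
  refine HasAlt.congr (w := 1 + extMap φ 0 (Pi.single ⟨0, hn⟩ 1)) ?_ L (fun v => hL v)
  let B' : (F × (Fin n → F) × F) →ₗ[F] (F × (Fin n → F) × F) →ₗ[F] F :=
    LinearMap.mk₂ F (fun x y => x.1 * y.2.2 - x.2.2 * y.1 + B x.2.1 y.2.1)
      (fun x x' y => by simp; ring) (fun r x y => by simp; ring)
      (fun x y y' => by simp; ring) (fun r x y => by simp; ring)
  refine ⟨B', fun x => by simp [B', h1, mul_comm], fun x hx => ?_, fun x y => ?_⟩
  · have e1 := hx (1, 0, 0)
    have e2 := hx (0, 0, 1)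
    simp [B'] at e1 e2
    have e3 : x.2.1 = 0 := h2 _ fun w => by simpa [B'] using hx (0, w, 0)
    exact Prod.ext e2 (Prod.ext e3 e1)
  · have hskew : ∀ a b, B a b = - B b a := fun a b => by
      have h := h1 (a + b)
      simp only [map_add, LinearMap.add_apply, h1, zero_add, add_zero] at h
      exact eq_neg_of_add_eq_zero_right h
    simp only [B', LinearMap.mk₂_apply, LinearMap.add_apply, Module.End.one_apply, extMap,
      LinearMap.coe_mk, AddHom.coe_mk, Prod.fst_add, Prod.snd_add, add_zero, mul_zero]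
    have hj : ∀ v, v + (jn F n v) = jb F n v := fun v => by rw [jn_apply]; abel
    simp only [← add_assoc, hj, φ, LinearMap.neg_apply, LinearMap.comp_apply, LinearMap.flip_apply,
      map_add, map_smul, LinearMap.smul_apply, h1, h3, smul_eq_mul, LinearMap.add_apply]
    rw [hskew (Pi.single ⟨0, hn⟩ 1) (jb F n y.2.1)]
    ring

theorem hasQuad_step {n : ℕ} (hn : 0 < n) (h : HasQuad (jb F n)) : HasQuad (jb F (n + 2)) := by
  obtain ⟨Q, h2, h3⟩ := h
  let e0 : Fin n → F := Pi.single ⟨0, hn⟩ 1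
  let φ : (Fin n → F) →ₗ[F] F := -(((QuadraticMap.polarBilin Q).flip e0) ∘ₗ jb F n)
  have hz : jb F n (Pi.single ⟨n - 1, by omega⟩ 1) = (Pi.single ⟨n - 1, by omega⟩ 1 : Fin n → F) := by
    funext i
    simp only [jb_apply, Pi.single_apply, Fin.ext_iff, add_eq_left]
    split_ifs <;> first | omega | rfl
  have hinv : ∀ v w, QuadraticMap.polar Q (jb F n v) (jb F n w) = QuadraticMap.polar Q v w := fun v w => by
    simp only [QuadraticMap.polar, ← map_add (jb F n), h3]
  obtain ⟨L, hL⟩ := extMap_equiv hn φ (-Q e0) (by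
    simpa [φ, hz, e0] using polar_last_ne hn (QuadraticMap.polarBilin Q) h2 hinv)
  refine HasQuad.congr (w := 1 + extMap φ (-Q e0) (Pi.single ⟨0, hn⟩ 1)) ?_ L (fun v => hL v)
  let pa : (F × (Fin n → F) × F) →ₗ[F] F := LinearMap.fst F F _
  let pb : (F × (Fin n → F) × F) →ₗ[F] F := (LinearMap.snd F _ F) ∘ₗ (LinearMap.snd F F _)
  let pv : (F × (Fin n → F) × F) →ₗ[F] (Fin n → F) := (LinearMap.fst F _ F) ∘ₗ (LinearMap.snd F F _)
  let Q' : QuadraticForm F (F × (Fin n → F) × F) := QuadraticMap.linMulLin pa pb + Q.comp pv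
  have hQ' : ∀ x, Q' x = x.1 * x.2.2 + Q x.2.1 := fun x => rfl
  refine ⟨Q', fun x hx => ?_, fun x => ?_⟩
  · have e1 := hx (1, 0, 0)
    have e2 := hx (0, 0, 1)
    simp [QuadraticMap.polar, hQ'] at e1 e2
    have e3 : x.2.1 = 0 := h2 _ fun w => by
      simpa [QuadraticMap.polar, hQ', sub_sub, add_sub_add_left_eq_sub] using hx (0, w, 0)
    refine Prod.ext ?_ (Prod.ext e3 ?_)
    · show x.1 = 0
      linear_combination e2
    · show x.2.2 = 0
      linear_combination e1
  · rw [hQ', hQ']
    simp only [LinearMap.add_apply, Module.End.one_apply, extMap, LinearMap.coe_mk, AddHom.coe_mk,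
      Prod.fst_add, Prod.snd_add, add_zero]
    rw [← add_assoc x.2.1, show x.2.1 + jn F n x.2.1 = jb F n x.2.1 by rw [jn_apply]; abel,
      QuadraticMap.map_add Q (jb F n x.2.1), h3, QuadraticMap.map_smul, QuadraticMap.polar_smul_right]
    simp only [φ, LinearMap.neg_apply, LinearMap.comp_apply, LinearMap.flip_apply,
      QuadraticMap.polarBilin_apply_apply, smul_eq_mul]
    ring

theorem hasAlt_two : HasAlt (jb F 2) := by
  refine ⟨LinearMap.mk₂ F (fun v w => v 0 * w 1 - v 1 * w 0) (fun x x' y => by simp; ring)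
    (fun r x y => by simp; ring) (fun x y y' => by simp; ring) (fun r x y => by simp; ring),
    fun v => by simp [mul_comm], fun v hv => ?_, fun v w => ?_⟩
  · have e1 := hv (Pi.single 0 1)
    have e2 := hv (Pi.single 1 1)
    simp at e1 e2
    funext i
    fin_cases i <;> simp [e1, e2]
  · simp [jb_apply]
    ring

theorem hasQuad_one (h : (2 : F) ≠ 0) : HasQuad (jb F 1) := by
  refine ⟨QuadraticMap.linMulLin (LinearMap.proj 0) (LinearMap.proj 0), fun v hv => ?_, fun v => ?_⟩
  · have e := hv (Pi.single 0 1)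
    simp [QuadraticMap.polar] at e
    funext i
    fin_cases i
    have : (2 : F) * v 0 = 0 := by linear_combination e
    simpa [h] using this
  · simp [jb_apply]

theorem hasQuad_two (h : (2 : F) = 0) : HasQuad (jb F 2) := by
  refine ⟨QuadraticMap.linMulLin (LinearMap.proj 0) (LinearMap.proj 1) +
    QuadraticMap.linMulLin (LinearMap.proj 1) (LinearMap.proj 1), fun v hv => ?_, fun v => ?_⟩
  · have e1 := hv (Pi.single 0 1)
    have e2 := hv (Pi.single 1 1)
    simp [QuadraticMap.polar] at e1 e2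
    funext i
    fin_cases i
    · show v 0 = 0
      linear_combination e2 - v 1 * h
    · show v 1 = 0
      linear_combination e1
  · simp [jb_apply]
    linear_combination (v 0 * v 0 + v 0 * v 1) * h

theorem hasAlt_even : ∀ m : ℕ, HasAlt (jb F (2 * m + 2))
  | 0 => hasAlt_two
  | m + 1 => hasAlt_step (by omega) (hasAlt_even m)

theorem hasQuad_odd (h : (2 : F) ≠ 0) : ∀ m : ℕ, HasQuad (jb F (2 * m + 1))
  | 0 => hasQuad_one h
  | m + 1 => hasQuad_step (n := 2 * m + 1) (by omega) (hasQuad_odd h m)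

theorem hasQuad_even (h : (2 : F) = 0) : ∀ m : ℕ, HasQuad (jb F (2 * m + 2))
  | 0 => hasQuad_two h
  | m + 1 => hasQuad_step (n := 2 * m + 2) (by omega) (hasQuad_even h m)

end CfsgLib.UnipotentClassical
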